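import Mathlib
import Cfsg.Prelude.Def_ClassicalGeometry
import Cfsg.Agent.Lib.Helper13.S5955.Defs

set_option autoImplicit false

/-!
# Project SPC (designer helper7): definitions for S2676 (3u).

`Sp_2m(q)`, `q` a power of the odd prime `p`: the conjugacy classes of elements of order `p` correspond to the signed partitions of `2m`.

* Cayley transform `g ↦ N = (g - 1)(g + 1)⁻¹`: elements `g` with `g ^ p = 1` correspond (`Sp`-equivariantly) to the matrices `N` with `N ^ p = 0` which are
  skew for the symplectic form.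
* A *triple* `T = (V, B, N)` (`Trip`): a finite-dimensional space with a bilinear form and an endomorphism; `T.Good`: `B` alternating and non-degenerate,
  `N` skew and nilpotent.  `TIso`: isomorphism of triples, `TSum`: orthogonal sum, `TZero`: the zero triple.
* Blocks: `blkA k c` (`k` even, `c ≠ 0`): one Jordan chain `e_0, …, e_(k-1)`, `N e_a = e_(a+1)`, `B (e_a, e_b) = (-1)^a c` if `a + b + 1 = k`, else `0`.
  `blkH k` (`k` odd): two chains `e_a`, `f_b`, each totally isotropic, `B (e_a, f_b) = (-1)^a` if `a + b + 1 = k`.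
* Every good triple is isomorphic to `sumList L` for a list `L` of canonical blocks; `sumList L ≅ sumList L'` iff the parts agree (`partsL`) and for each `k` the
  products of the constants of the `A k`-blocks (`prodA`) agree up to squares.
-/

namespace Cfsg.Agent.Lib.helper7.SPC

universe u

open Module

/-- a triple `(V, B, N)`; no axioms (see `Trip.Good`) -/
structure Trip (F : Type u) [Field F] where
  V : Type u
  [acg : AddCommGroup V]
  [mod : Module F V]
  [fd : FiniteDimensional F V]
  B : V →ₗ[F] V →ₗ[F] F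
  N : V →ₗ[F] V

attribute [instance] Trip.acg Trip.mod Trip.fd

variable {F : Type u} [Field F]

/-- `B` alternating, non-degenerate; `N` skew, nilpotent -/
structure Trip.Good (T : Trip F) : Prop where
  alt : ∀ x, T.B x x = 0
  nd : ∀ x, (∀ y, T.B x y = 0) → x = 0
  skew : ∀ x y, T.B (T.N x) y = - T.B x (T.N y)
  nil : ∃ k : ℕ, T.N ^ k = 0

/-- isomorphism of triples -/
def TIso (T T' : Trip F) : Prop :=
  ∃ e : T.V ≃ₗ[F] T'.V, (∀ x y, T'.B (e x) (e y) = T.B x y) ∧ ∀ x, e (T.N x) = T'.N (e x)

/-- orthogonal sum of triples -/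
def TSum (T T' : Trip F) : Trip F where
  V := T.V × T'.V
  B := T.B.compl₁₂ (LinearMap.fst F T.V T'.V) (LinearMap.fst F T.V T'.V) +
    T'.B.compl₁₂ (LinearMap.snd F T.V T'.V) (LinearMap.snd F T.V T'.V)
  N := LinearMap.prodMap T.N T'.N

theorem TSum_B (T T' : Trip F) (x y : T.V × T'.V) :
    (TSum T T').B x y = T.B x.1 y.1 + T'.B x.2 y.2 := rfl

theorem TSum_N (T T' : Trip F) (x : T.V × T'.V) : (TSum T T').N x = (T.N x.1, T'.N x.2) := rfl

/-- the zero triple -/
def TZero (F : Type u) [Field F] : Trip F where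
  V := PUnit.{u + 1}
  B := 0
  N := 0

/-- the shift matrix: `shiftM k` maps `e_a` to `e_(a+1)` (and `e_(k-1)` to `0`) -/
def shiftM (k : ℕ) (F : Type u) [Field F] : Matrix (Fin k) (Fin k) F :=
  fun i j => if i.val = j.val + 1 then 1 else 0

/-- the Gram matrix of the block `A k c`: anti-diagonal with entries `(-1)^a c` -/
def gramA (k : ℕ) (c : F) : Matrix (Fin k) (Fin k) F :=
  fun a b => if a.val + b.val + 1 = k then (-1) ^ a.val * c else 0

/-- the block `A k c` (good for `k` even and `c ≠ 0`) -/
noncomputable def blkA (k : ℕ) (c : F) : Trip F where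
  V := Fin k → F
  B := Matrix.toLinearMap₂' F (gramA k c)
  N := Matrix.toLin' (shiftM k F)

/-- the Gram matrix of the block `H k`: `B (e_a, f_b) = (-1)^a` for `a + b + 1 = k`, `B (f_b, e_a) = - B (e_a, f_b)` -/
def gramH (k : ℕ) (F : Type u) [Field F] : Matrix (Fin k ⊕ Fin k) (Fin k ⊕ Fin k) F :=
  Matrix.fromBlocks 0 (gramA k (1 : F)) (-(Matrix.transpose (gramA k (1 : F)))) 0

/-- the block `H k` (good for every `k`; canonical for `k` odd) -/
noncomputable def blkH (k : ℕ) (F : Type u) [Field F] : Trip F where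
  V := Fin k ⊕ Fin k → F
  B := Matrix.toLinearMap₂' F (gramH k F)
  N := Matrix.toLin' (Matrix.fromBlocks (shiftM k F) 0 0 (shiftM k F))

/-- block symbols -/
inductive Blk (F : Type u) where
  | A (k : ℕ) (c : F) : Blk F
  | H (k : ℕ) : Blk F

/-- the triple of a block symbol -/
noncomputable def Blk.trip : Blk F → Trip F
  | Blk.A k c => blkA k c
  | Blk.H k => blkH k F

/-- canonical block symbols: `A k c` with `k` even, positive, `c ≠ 0`; `H k` with `k` odd -/
def Blk.Canon : Blk F → Prop
  | Blk.A k c => Even k ∧ 0 < k ∧ c ≠ 0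
  | Blk.H k => Odd k

/-- the length of the chains of a block -/
def Blk.len : Blk F → ℕ
  | Blk.A k _ => k
  | Blk.H k => k

/-- the parts (Jordan block sizes) of a block -/
def Blk.parts : Blk F → Multiset ℕ
  | Blk.A k _ => {k}
  | Blk.H k => {k, k}

/-- the constant of a block at the length `k`: `c` for `A k c`, `1` otherwise -/
def Blk.cst (k : ℕ) : Blk F → F
  | Blk.A k' c => if k' = k then c else 1
  | Blk.H _ => 1

/-- the orthogonal sum of the blocks of a list -/
noncomputable def sumList (L : List (Blk F)) : Trip F :=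
  L.foldr (fun b T => TSum b.trip T) (TZero F)

theorem sumList_nil : sumList ([] : List (Blk F)) = TZero F := rfl

theorem sumList_cons (b : Blk F) (L : List (Blk F)) : sumList (b :: L) = TSum b.trip (sumList L) := rfl

/-- all blocks canonical -/
def CanonL (L : List (Blk F)) : Prop := ∀ b ∈ L, b.Canon

/-- the multiset of the parts of a list of blocks -/
def partsL (L : List (Blk F)) : Multiset ℕ := (L.map Blk.parts).sum

/-- the product of the constants of the `A k`-blocks of a list -/
def prodA (L : List (Blk F)) (k : ℕ) : F := (L.map (Blk.cst k)).prod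

/-- the form `β_k (x, y) = B (x, N^(k-1) y)` (symmetric for `k` even, on a good triple) -/
def Trip.beta (T : Trip F) (k : ℕ) (x y : T.V) : F := T.B x ((T.N ^ (k - 1)) y)

/-- `β_k` restricted to `ker N^k` is, modulo its radical, a diagonal form of dimension `r` with discriminant `d` -/
def HasDisc (T : Trip F) (k r : ℕ) (d : F) : Prop :=
  ∃ (ι : Type) (_ : Fintype ι) (_ : DecidableEq ι) (u : ι → T.V) (c : ι → F),
    Fintype.card ι = r ∧ (∀ i, (T.N ^ k) (u i) = 0) ∧ (∀ i, c i ≠ 0) ∧
    (∀ i j, T.beta k (u i) (u j) = if i = j then c i else 0) ∧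
    (∀ z, (T.N ^ k) z = 0 → ∃ a : ι → F, ∀ w, (T.N ^ k) w = 0 →
      T.beta k (z - ∑ i, a i • u i) w = 0) ∧
    d = ∏ i, c i

/-- `N` is skew for the standard symplectic form -/
def SkewM (m : ℕ) (N : Matrix (Fin m ⊕ Fin m) (Fin m ⊕ Fin m) F) : Prop :=
  ∀ u v, Cfsg.sympForm m F (N.mulVec u) v = - Cfsg.sympForm m F u (N.mulVec v)

/-- the standard triple of a matrix -/
noncomputable def stdTrip (m : ℕ) (N : Matrix (Fin m ⊕ Fin m) (Fin m ⊕ Fin m) F) : Trip F where
  V := Fin m ⊕ Fin m → F
  B := Cfsg.Agent.Lib.Helper13.S5955.stdB m F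
  N := Matrix.toLin' N

/-- the Cayley transform `(A - 1)(A + 1)⁻¹` -/
noncomputable def cay {n : Type} [Fintype n] [DecidableEq n] (A : Matrix n n F) : Matrix n n F :=
  (A - 1) * (A + 1)⁻¹

/-- the admissible partitions of `2 m`: parts at most `p`, odd parts with even multiplicity -/
def GoodPart (p m : ℕ) (μ : Nat.Partition (2 * m)) : Prop :=
  (∀ a ∈ μ.parts, a ≤ p) ∧ ∀ j : ℕ, Odd j → Even (μ.parts.count j)

/-- the even part sizes of a partition -/
def evenParts {n : ℕ} (μ : Nat.Partition n) : Finset ℕ := μ.parts.toFinset.filter (fun j : ℕ => Even j)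

/-- signed partitions -/
def Sig (p m : ℕ) : Type := (μ : {μ : Nat.Partition (2 * m) // GoodPart p m μ}) × (↥(evenParts μ.1) → Bool)

end Cfsg.Agent.Lib.helper7.SPC
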